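import Mathlib
import Cfsg.Agent.H870.IMFiTwentyThree
import Cfsg.Agent.H163.PG.Fi24
import Cfsg.Agent.H393.Iso.Fi23
import Cfsg.Agent.H713.Spor.Fi23
import Cfsg.Agent.H661.SporCount_m3
import Cfsg.Agent.Lib.FastPerm
import Cfsg.Agent.FastGrp
import Cfsg.Agent.Prune
set_option linter.all false
prune_inst 0x7f00000000000000000000000000000000000000000000000000000000000000000000000000000000000000000000000000000000000000000000000000000000000000000000000000000000000000003fffffffffffffffffffffffffffbeffbdffffffff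
open scoped Cfsg.Agent.FastGrp

-- part: H841/PB/FourTr
section
/-!
# The product of two products of two commuting 3-transpositions (helper841)

`pow_sixty` : `a, b, e, f` 3-transpositions, `ab = ba`, `ef = fe`: `(abef) ^ 60 = 1`.
-/

set_option autoImplicit false
set_option linter.unusedSimpArgs false

namespace Cfsg.Agent.H841.PB

section

variable {G : Type*} [Group G]

/-- commuting or braiding -/
def CB (a e : G) : Prop := a * e = e * a ∨ a * e * a = e * a * e

theorem CB.symm {a e : G} (h : CB a e) : CB e a := by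
  rcases h with h | h
  · exact Or.inl h.symm
  · exact Or.inr h.symm

theorem CB.pow_six {a e : G} (ha : a * a = 1) (he : e * e = 1) (h : CB a e) : (a * e) ^ 6 = 1 := by
  rcases h with h | h
  · have h1 : (a * e) ^ 2 = 1 := by
      rw [pow_two]
      calc a * e * (a * e) = a * (e * a) * e := by group
        _ = (a * a) * (e * e) := by rw [← h]; group
        _ = 1 := by rw [ha, he, one_mul]
    calc (a * e) ^ 6 = ((a * e) ^ 2) ^ 3 := by rw [← pow_mul]
      _ = 1 := by rw [h1, one_pow]
  · have h1 : (a * e) ^ 3 = 1 := by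
      calc (a * e) ^ 3 = (a * e * a) * (e * a * e) := by
            simp only [pow_succ, pow_zero, one_mul, mul_assoc]
        _ = (a * e * a) * (a * e * a) := by rw [h]
        _ = a * e * (a * a) * e * a := by group
        _ = 1 := by rw [ha, mul_one, mul_assoc a e e, he, mul_one, ha]
    calc (a * e) ^ 6 = ((a * e) ^ 3) ^ 2 := by rw [← pow_mul]
      _ = 1 := by rw [h1, one_pow]

/-- the case of two orthogonal pairs -/
theorem pow_six_of_comm {a b e f : G} (ha : a * a = 1) (hb : b * b = 1) (he : e * e = 1) (hf : f * f = 1)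
    (hab : a * b = b * a) (hef : e * f = f * e) (hae : CB a e) (hbf : CB b f) (haf : a * f = f * a)
    (hbe : b * e = e * b) : (a * b * e * f) ^ 6 = 1 := by
  have hc : Commute (a * e) (b * f) := by
    have h1 : Commute a b := hab
    have h2 : Commute a f := haf
    have h3 : Commute e b := hbe.symm
    have h4 : Commute e f := hef
    exact (h1.mul_right h2).mul_left (h3.mul_right h4)
  have h1 : a * b * e * f = (a * e) * (b * f) := by
    calc a * b * e * f = a * (b * e) * f := by group
      _ = (a * e) * (b * f) := by rw [hbe]; group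
  rw [h1, hc.mul_pow, hae.pow_six ha he, hbf.pow_six hb hf, one_mul]

/-- the square of `abef` when `e` commutes with its conjugate, and `f` too -/
theorem pow_twelve {a b e f E F : G} (ha : a * a = 1) (hb : b * b = 1) (he : e * e = 1) (hf : f * f = 1)
    (hab : a * b = b * a) (hef : e * f = f * e) (hE : E = a * b * e * (b * a)) (hF : F = a * b * f * (b * a))
    (h1 : Commute E e) (h2 : Commute F f) (h3 : CB F e) : (a * b * e * f) ^ 12 = 1 := by
  have hsq : (a * b) * (b * a) = 1 := by
    calc (a * b) * (b * a) = a * (b * b) * a := by group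
      _ = 1 := by rw [hb, mul_one, ha]
  have hsq' : (b * a) * (a * b) = 1 := by
    calc (b * a) * (a * b) = b * (a * a) * b := by group
      _ = 1 := by rw [ha, mul_one, hb]
  have hEF : Commute E F := by
    show E * F = F * E
    rw [hE, hF]
    calc a * b * e * (b * a) * (a * b * f * (b * a)) = a * b * e * ((b * a) * (a * b)) * f * (b * a) := by group
      _ = a * b * (e * f) * (b * a) := by rw [hsq']; group
      _ = a * b * (f * e) * (b * a) := by rw [hef]
      _ = a * b * f * 1 * e * (b * a) := by group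
      _ = a * b * f * ((b * a) * (a * b)) * e * (b * a) := by rw [hsq']
      _ = a * b * f * (b * a) * (a * b * e * (b * a)) := by group
  have hEE : E * E = 1 := by
    rw [hE]
    calc a * b * e * (b * a) * (a * b * e * (b * a)) = a * b * e * ((b * a) * (a * b)) * e * (b * a) := by group
      _ = a * b * (e * e) * (b * a) := by rw [hsq']; group
      _ = 1 := by rw [he, mul_one, hsq]
  have hFF : F * F = 1 := by
    rw [hF]
    calc a * b * f * (b * a) * (a * b * f * (b * a)) = a * b * f * ((b * a) * (a * b)) * f * (b * a) := by group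
      _ = a * b * (f * f) * (b * a) := by rw [hsq']; group
      _ = 1 := by rw [hf, mul_one, hsq]
  -- the square
  have hx : (a * b * e * f) ^ 2 = (F * e) * (E * f) := by
    have h4 : (a * b * e * f) ^ 2 = E * F * (e * f) := by
      rw [hE, hF, pow_two]
      calc a * b * e * f * (a * b * e * f) = a * b * e * 1 * f * (a * b) * (e * f) := by group
        _ = a * b * e * ((b * a) * (a * b)) * f * (b * a) * (e * f) := by rw [hsq', hab]
        _ = a * b * e * (b * a) * (a * b * f * (b * a)) * (e * f) := by group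
    rw [h4]
    calc E * F * (e * f) = (E * F) * e * f := by group
      _ = F * (E * e) * f := by rw [hEF.eq]; group
      _ = F * e * (E * f) := by rw [h1.eq]; group
  -- `(E, f)` is conjugate to `(e, F)`
  have h3' : CB E f := by
    have e1 : (a * b) * e * (b * a) = E := hE.symm
    have e2 : (a * b) * F * (b * a) = f := by
      rw [hF]
      have hab2 : (a * b) * (a * b) = 1 := by rw [hab]; rw [← hab]; nth_rewrite 2 [hab]; exact hsq
      have hab3 : (b * a) * (b * a) = 1 := by rw [← hab]; exact hab2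
      calc a * b * (a * b * f * (b * a)) * (b * a) = ((a * b) * (a * b)) * f * ((b * a) * (b * a)) := by group
        _ = f := by rw [hab2, hab3, one_mul, mul_one]
    rcases h3 with h | h
    · left
      have h5 : Commute e F := h.symm
      calc E * f = (a * b * e * (b * a)) * (a * b * F * (b * a)) := by rw [e1, e2]
        _ = a * b * e * ((b * a) * (a * b)) * F * (b * a) := by group
        _ = a * b * (e * F) * (b * a) := by rw [hsq']; group
        _ = a * b * (F * e) * (b * a) := by rw [h5.eq]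
        _ = a * b * F * 1 * e * (b * a) := by group
        _ = a * b * F * ((b * a) * (a * b)) * e * (b * a) := by rw [hsq']
        _ = (a * b * F * (b * a)) * (a * b * e * (b * a)) := by group
        _ = f * E := by rw [e1, e2]
    · right
      calc E * f * E = (a * b * e * (b * a)) * (a * b * F * (b * a)) * (a * b * e * (b * a)) := by rw [e1, e2]
        _ = a * b * e * ((b * a) * (a * b)) * F * ((b * a) * (a * b)) * e * (b * a) := by group
        _ = a * b * (e * F * e) * (b * a) := by rw [hsq']; group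
        _ = a * b * (F * e * F) * (b * a) := by rw [h]
        _ = a * b * F * 1 * e * 1 * F * (b * a) := by group
        _ = a * b * F * ((b * a) * (a * b)) * e * ((b * a) * (a * b)) * F * (b * a) := by rw [hsq']
        _ = (a * b * F * (b * a)) * (a * b * e * (b * a)) * (a * b * F * (b * a)) := by group
        _ = f * E * f := by rw [e1, e2]
  have hcm : Commute (F * e) (E * f) := by
    have h6 : Commute e f := hef
    exact (hEF.symm.mul_right h2).mul_left (h1.symm.mul_right h6)
  calc (a * b * e * f) ^ 12 = ((a * b * e * f) ^ 2) ^ 6 := by rw [← pow_mul]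
    _ = 1 := by rw [hx, hcm.mul_pow, h3.pow_six hFF he, h3'.pow_six hEE hf, one_mul]

/-- the conjugate of `e` commutes with `e` if `e` braids with both `a` and `b` -/
theorem comm_of_braid {a b e : G} (hab : a * b = b * a) (hae : a * e * a = e * a * e) (hbe : b * e * b = e * b * e) :
    Commute (a * b * e * (b * a)) e := by
  show a * b * e * (b * a) * e = e * (a * b * e * (b * a))
  calc a * b * e * (b * a) * e = a * (b * e * b) * a * e := by group
    _ = a * e * b * (e * a * e) := by rw [hbe]; group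
    _ = a * e * (b * a) * e * a := by rw [← hae]; group
    _ = (a * e * a) * b * e * a := by rw [← hab]; group
    _ = e * a * (e * b * e) * a := by rw [hae]; group
    _ = e * (a * b * e * (b * a)) := by rw [← hbe]; group

theorem comm_of_comm {a b e : G} (ha : a * a = 1) (hb : b * b = 1) (hae : a * e = e * a) (hbe : b * e = e * b) :
    Commute (a * b * e * (b * a)) e := by
  have h : a * b * e * (b * a) = e := by
    calc a * b * e * (b * a) = a * (b * e) * (b * a) := by group
      _ = (a * e) * (b * b) * a := by rw [hbe]; group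
      _ = e * (a * a) := by rw [hb, hae]; group
      _ = e := by rw [ha, mul_one]
  rw [h]

/-- the path `e - a - f - b` -/
theorem pow_five {a b e f : G} (ha : a * a = 1) (hb : b * b = 1) (he : e * e = 1) (hf : f * f = 1)
    (hab : a * b = b * a) (hef : e * f = f * e) (hbe : b * e = e * b) (hae : a * e * a = e * a * e)
    (haf : a * f * a = f * a * f) (hbf : b * f * b = f * b * f) : (a * b * e * f) ^ 5 = 1 := by
  have q1 : ∀ t : G, e * (e * t) = t := fun t => by rw [← mul_assoc, he, one_mul]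
  have q2 : ∀ t : G, a * (a * t) = t := fun t => by rw [← mul_assoc, ha, one_mul]
  have q3 : ∀ t : G, f * (f * t) = t := fun t => by rw [← mul_assoc, hf, one_mul]
  have q4 : ∀ t : G, b * (b * t) = t := fun t => by rw [← mul_assoc, hb, one_mul]
  have c31 : ∀ t : G, f * (e * t) = e * (f * t) := fun t => by rw [← mul_assoc, ← hef, mul_assoc]
  have c41 : ∀ t : G, b * (e * t) = e * (b * t) := fun t => by rw [← mul_assoc, hbe, mul_assoc]
  have c42 : ∀ t : G, b * (a * t) = a * (b * t) := fun t => by rw [← mul_assoc, ← hab, mul_assoc]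
  have b21 : a * (e * a) = e * (a * e) := by rw [← mul_assoc, hae, mul_assoc]
  have b21' : ∀ t : G, a * (e * (a * t)) = e * (a * (e * t)) := fun t => by
    rw [← mul_assoc, ← mul_assoc, hae, mul_assoc, mul_assoc]
  have b32 : f * (a * f) = a * (f * a) := by rw [← mul_assoc, ← haf, mul_assoc]
  have b32' : ∀ t : G, f * (a * (f * t)) = a * (f * (a * t)) := fun t => by
    rw [← mul_assoc, ← mul_assoc, ← haf, mul_assoc, mul_assoc]
  have b43 : b * (f * b) = f * (b * f) := by rw [← mul_assoc, hbf, mul_assoc]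
  have b43' : ∀ t : G, b * (f * (b * t)) = f * (b * (f * t)) := fun t => by
    rw [← mul_assoc, ← mul_assoc, hbf, mul_assoc, mul_assoc]
  have l31 : f * (a * (e * f)) = a * (f * (a * e)) := by rw [hef, b32']
  have l31' : ∀ t : G, f * (a * (e * (f * t))) = a * (f * (a * (e * t))) := fun t => by
    rw [← c31, b32']
  have l42 : b * (f * (a * b)) = f * (b * (f * a)) := by rw [hab, b43']
  have l42' : ∀ t : G, b * (f * (a * (b * t))) = f * (b * (f * (a * t))) := fun t => by
    rw [← c42, b43']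
  have l41 : b * (f * (a * (e * b))) = f * (b * (f * (a * e))) := by rw [← hbe, l42']
  have l41' : ∀ t : G, b * (f * (a * (e * (b * t)))) = f * (b * (f * (a * (e * t)))) := fun t => by
    rw [← c41, l42']
  simp only [pow_succ, pow_zero, one_mul, mul_assoc, q1, q2, q3, q4, c31, c41, c42, b21, b21', b32, b32', b43, b43',
    l31, l31', l42, l42', l41, l41', he, ha, hf, hb, mul_one]

/-- **The product of two products of two commuting 3-transpositions.** -/
theorem pow_sixty {D : Set G} (hsq : ∀ d ∈ D, d * d = 1) (hcl : ∀ (g : G), ∀ d ∈ D, g * d * g⁻¹ ∈ D)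
    (hCB : ∀ d ∈ D, ∀ d' ∈ D, CB d d') {a b e f : G} (haD : a ∈ D) (hbD : b ∈ D) (heD : e ∈ D) (hfD : f ∈ D)
    (hab : a * b = b * a) (hef : e * f = f * e) : (a * b * e * f) ^ 60 = 1 := by
  have ha := hsq a haD
  have hb := hsq b hbD
  have he := hsq e heD
  have hf := hsq f hfD
  have s5 : ∀ x : G, x ^ 5 = 1 → x ^ 60 = 1 := fun x h => by
    calc x ^ 60 = (x ^ 5) ^ 12 := by rw [← pow_mul]
      _ = 1 := by rw [h, one_pow]
  have s6 : ∀ x : G, x ^ 6 = 1 → x ^ 60 = 1 := fun x h => by
    calc x ^ 60 = (x ^ 6) ^ 10 := by rw [← pow_mul]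
      _ = 1 := by rw [h, one_pow]
  have s12 : ∀ x : G, x ^ 12 = 1 → x ^ 60 = 1 := fun x h => by
    calc x ^ 60 = (x ^ 12) ^ 5 := by rw [← pow_mul]
      _ = 1 := by rw [h, one_pow]
  have i_ab : ∀ {u v : G}, u * u = 1 → v * v = 1 → (u * v)⁻¹ = v * u := fun {u v} hu hv => by
    rw [mul_inv_rev, inv_eq_of_mul_eq_one_left hu, inv_eq_of_mul_eq_one_left hv]
  -- the conjugates
  have hconj : ∀ {u v w : G}, u ∈ D → v ∈ D → w ∈ D → u * v * w * (v * u) ∈ D := fun {u v w} hu hv hw => by
    have h1 := hcl (u * v) w hw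
    rwa [i_ab (hsq u hu) (hsq v hv)] at h1
  -- the three cases
  have t12 : ∀ a b e f : G, a ∈ D → b ∈ D → e ∈ D → f ∈ D → a * b = b * a → e * f = f * e →
      ((a * e = e * a ∧ b * e = e * b) ∨ (a * e * a = e * a * e ∧ b * e * b = e * b * e)) →
      ((a * f = f * a ∧ b * f = f * b) ∨ (a * f * a = f * a * f ∧ b * f * b = f * b * f)) →
      (a * b * e * f) ^ 12 = 1 := by
    intro a b e f ha hb he hf hab hef h1 h2
    refine pow_twelve (hsq a ha) (hsq b hb) (hsq e he) (hsq f hf) hab hef rfl rfl ?_ ?_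
      (hCB _ (hconj ha hb hf) _ he)
    · rcases h1 with ⟨h3, h4⟩ | ⟨h3, h4⟩
      · exact comm_of_comm (hsq a ha) (hsq b hb) h3 h4
      · exact comm_of_braid hab h3 h4
    · rcases h2 with ⟨h3, h4⟩ | ⟨h3, h4⟩
      · exact comm_of_comm (hsq a ha) (hsq b hb) h3 h4
      · exact comm_of_braid hab h3 h4
  have t12' : (e * f * a * b) ^ 12 = 1 → (a * b * e * f) ^ 12 = 1 := by
    intro h
    have e1 : a * b * e * f = (a * b) * (e * f * a * b) * (a * b)⁻¹ := by group
    rw [e1, conj_pow, h]
    group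
  rcases hCB a haD e heD with ae | ae <;> rcases hCB a haD f hfD with af | af <;>
    rcases hCB b hbD e heD with be | be <;> rcases hCB b hbD f hfD with bf | bf
  · exact s6 _ (pow_six_of_comm ha hb he hf hab hef (Or.inl ae) (Or.inl bf) af be)
  · exact s6 _ (pow_six_of_comm ha hb he hf hab hef (Or.inl ae) (Or.inr bf) af be)
  · -- `be` only
    have h := pow_six_of_comm ha hb hf he hab hef.symm (Or.inl af) (Or.inr be) ae bf
    have e1 : a * b * e * f = a * b * f * e := by rw [mul_assoc (a * b), hef, ← mul_assoc]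
    rw [e1]
    exact s6 _ h
  · -- star at `b`
    refine s12 _ (t12' (t12 e f a b heD hfD haD hbD hef hab (Or.inl ⟨ae.symm, af.symm⟩) (Or.inr ⟨be.symm, bf.symm⟩)))
  · -- `af` only
    have h := pow_six_of_comm ha hb hf he hab hef.symm (Or.inr af) (Or.inl be) ae bf
    have e1 : a * b * e * f = a * b * f * e := by rw [mul_assoc (a * b), hef, ← mul_assoc]
    rw [e1]
    exact s6 _ h
  · -- star at `f`
    exact s12 _ (t12 a b e f haD hbD heD hfD hab hef (Or.inl ⟨ae, be⟩) (Or.inr ⟨af, bf⟩))
  · -- `af, be`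
    have h := pow_six_of_comm ha hb hf he hab hef.symm (Or.inr af) (Or.inr be) ae bf
    have e1 : a * b * e * f = a * b * f * e := by rw [mul_assoc (a * b), hef, ← mul_assoc]
    rw [e1]
    exact s6 _ h
  · -- missing `ae` : the path `e - b - f - a`
    have h := pow_five hb ha he hf hab.symm hef ae be bf af
    have e1 : a * b * e * f = b * a * e * f := by rw [hab]
    rw [e1]
    exact s5 _ h
  · -- `ae` only
    exact s6 _ (pow_six_of_comm ha hb he hf hab hef (Or.inr ae) (Or.inl bf) af be)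
  · -- `ae, bf`
    exact s6 _ (pow_six_of_comm ha hb he hf hab hef (Or.inr ae) (Or.inr bf) af be)
  · -- star at `e`
    exact s12 _ (t12 a b e f haD hbD heD hfD hab hef (Or.inr ⟨ae, be⟩) (Or.inl ⟨af, bf⟩))
  · -- missing `af` : the path `f - b - e - a`
    have h := pow_five hb ha hf he hab.symm hef.symm af bf be ae
    have e1 : a * b * e * f = b * a * f * e := by rw [mul_assoc (a * b), hef, hab, ← mul_assoc]
    rw [e1]
    exact s5 _ h
  · -- star at `a`
    refine s12 _ (t12' (t12 e f a b heD hfD haD hbD hef hab (Or.inr ⟨ae.symm, af.symm⟩) (Or.inl ⟨be.symm, bf.symm⟩)))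
  · -- missing `be` : the path `e - a - f - b`
    exact s5 _ (pow_five ha hb he hf hab hef be ae af bf)
  · -- missing `bf` : the path `f - a - e - b`
    have h := pow_five ha hb hf he hab hef.symm bf af ae be
    have e1 : a * b * e * f = a * b * f * e := by rw [mul_assoc (a * b), hef, ← mul_assoc]
    rw [e1]
    exact s5 _ h
  · exact s12 _ (t12 a b e f haD hbD heD hfD hab hef (Or.inr ⟨ae, be⟩) (Or.inr ⟨af, bf⟩))

end

end Cfsg.Agent.H841.PB
end

-- part: H841/PB/FiTwentyThreeA
section
/-!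
# Facts about `Fi₂₃` for the row of S4826 (helper841)

* `card_cent_17` : the elements of order 17 are self-centralizing;
* `fx_eleven` : an element commuting with an element `x` of order 11 fixes the two transpositions commuting with `x`;
* `not_dvd_seven` : the involutions which invert an element of order 17 commute with no element of order 7.
-/

set_option autoImplicit false
set_option linter.constructorNameAsVariable false
set_option maxRecDepth 10000

namespace Cfsg.Agent.H841.PB.FiTwentyThree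

open Cfsg Cfsg.Spor Cfsg.Agent.Fischer Cfsg.Agent.Fischer.Abstract Cfsg.Agent.R08.FiTwentyThree
open Cfsg.Agent.Fischer.Fi23Class (K)
open Cfsg.Agent.Fischer.Fi23Z (z0)
open Cfsg.Agent.H163.PG.FiTT Subgroup
open Cfsg.Agent.KFacts.FiTTh.Cent (W2 W3 Ds2 Ds3)
open Cfsg.Spor.Fi23 (Gen)

theorem fi23_card : Nat.card Fi23 = 4089470473293004800 := LThreeFi23.card_G

/-! ### Conjugation -/

theorem cj_comm {G : Type*} [Group G] {x y c : G} (h : x * y = y * x) :
    (c⁻¹ * x * c) * (c⁻¹ * y * c) = (c⁻¹ * y * c) * (c⁻¹ * x * c) := by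
  calc (c⁻¹ * x * c) * (c⁻¹ * y * c) = c⁻¹ * (x * y) * c := by group
    _ = (c⁻¹ * y * c) * (c⁻¹ * x * c) := by rw [h]; group

theorem cj_comm' {G : Type*} [Group G] {x d c : G} (h : (c⁻¹ * x * c) * d = d * (c⁻¹ * x * c)) :
    x * (c * d * c⁻¹) = (c * d * c⁻¹) * x := by
  calc x * (c * d * c⁻¹) = c * ((c⁻¹ * x * c) * d) * c⁻¹ := by group
    _ = (c * d * c⁻¹) * x := by rw [h]; group

theorem orderOf_cj {G : Type*} [Group G] (x c : G) : orderOf (c⁻¹ * x * c) = orderOf x := by
  have h := orderOf_injective (MulAut.conj c⁻¹).toMonoidHom (MulAut.conj c⁻¹).injective x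
  rw [← h]
  congr 1
  change _ = c⁻¹ * x * c⁻¹⁻¹
  rw [inv_inv]

/-! ### Order 11 -/

theorem ncard_eleven {x : Fi23} (hx : orderOf x = 11) : (Fx x).ncard = 2 := by
  have hmod := fx_modEq (r := 11) (by norm_num) (x := x) (by rw [← hx, pow_orderOf_eq_one])
  have hle := fx_le hx
  unfold Nat.ModEq at hmod
  omega

/-- the involutions commuting with an element of order 11 -/
theorem inv_eleven {x u : Fi23} (hx : orderOf x = 11) (hu : u * u = 1) (hu1 : u ≠ 1) (hux : x * u = u * x) :
    u ∈ Fx x ∨ ∃ d ∈ Fx x, ∃ e ∈ Fx x, d ≠ e ∧ d * e = e * d ∧ u = d * e := by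
  have := finite_fi23
  rcases KFacts.FiTTh.Has.inv u hu hu1 with h | h | h
  · left
    exact ⟨h.symm, hux⟩
  · right
    obtain ⟨c, hc⟩ := isConj_iff.1 h.symm
    have h1 : (c⁻¹ * x * c) * W2 = W2 * (c⁻¹ * x * c) := by
      have h2 := cj_comm (c := c) hux
      have h3 : c⁻¹ * u * c = W2 := by rw [← hc]; unfold W2; group
      rwa [h3] at h2
    have h2 := H393.Iso.comm_of_small (p := 11) (by norm_num) (Z := Ds2) (Set.toFinite _)
      (by rw [orderOf_cj]; exact hx) (fun z hz => CTwoTab.Fi23.perm2 h1 hz) (by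
        have h3 := Set.ncard_insert_le z0 ({Fi23Hom.gen .a} : Set Fi23)
        rw [Set.ncard_singleton] at h3
        exact lt_of_le_of_lt h3 (by norm_num))
    refine ⟨c * z0 * c⁻¹, ⟨conj_mem_D z0_mem_D c, cj_comm' (h2 z0 (Or.inl rfl))⟩, c * Fi23Hom.gen .a * c⁻¹,
      ⟨conj_mem_D (gen_mem_D .a) c, cj_comm' (h2 _ (Or.inr rfl))⟩, ?_, ?_, ?_⟩
    · intro h3
      exact KFacts.FiTTh.Cent.ne_gen_a (mul_left_cancel (mul_right_cancel h3)).symm
    · have h3 : (Fi23Hom.gen .a : Fi23) * z0 = z0 * Fi23Hom.gen .a := KFacts.FiTTh.Cent.z_gen .a (by decide)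
      calc c * z0 * c⁻¹ * (c * Fi23Hom.gen .a * c⁻¹) = c * (z0 * Fi23Hom.gen .a) * c⁻¹ := by group
        _ = c * Fi23Hom.gen .a * c⁻¹ * (c * z0 * c⁻¹) := by rw [← h3]; group
    · rw [← hc]; group
  · exfalso
    obtain ⟨c, hc⟩ := isConj_iff.1 h.symm
    have h1 : (c⁻¹ * x * c) * W3 = W3 * (c⁻¹ * x * c) := by
      have h2 := cj_comm (c := c) hux
      have h3 : c⁻¹ * u * c = W3 := by rw [← hc]; unfold W3; group
      rwa [h3] at h2
    have h2 := H393.Iso.comm_of_small (p := 11) (by norm_num) (Z := Ds3) (Set.toFinite _)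
      (by rw [orderOf_cj]; exact hx) (fun z hz => CTwoTab.Fi23.perm3 CTwoTab.Fi23.hac h1 hz) (by
        have h1 := Set.ncard_insert_le z0 ({Fi23Hom.gen .a, Fi23Hom.gen .c} : Set Fi23)
        have h2 := Set.ncard_insert_le (Fi23Hom.gen .a) ({Fi23Hom.gen .c} : Set Fi23)
        rw [Set.ncard_singleton] at h2
        exact lt_of_le_of_lt h1 (by omega))
    have h3 : (c * z0 * c⁻¹) ∈ Fx x := ⟨conj_mem_D z0_mem_D c, cj_comm' (h2 z0 (Or.inl rfl))⟩
    have h4 : (c * Fi23Hom.gen .a * c⁻¹) ∈ Fx x := ⟨conj_mem_D (gen_mem_D .a) c, cj_comm' (h2 _ (Or.inr (Or.inl rfl)))⟩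
    have h5 : (c * Fi23Hom.gen .c * c⁻¹) ∈ Fx x := ⟨conj_mem_D (gen_mem_D .c) c, cj_comm' (h2 _ (Or.inr (Or.inr rfl)))⟩
    have h6 : 2 < (Fx x).ncard := by
      rw [Set.two_lt_ncard_iff (finite_set _)]
      refine ⟨_, _, _, h3, h4, h5, ?_, ?_, ?_⟩
      · intro h3
        exact KFacts.FiTTh.Cent.ne_gen_a (mul_left_cancel (mul_right_cancel h3)).symm
      · intro h3
        exact KFacts.FiTTh.Cent.ne_gen_c (mul_left_cancel (mul_right_cancel h3)).symm
      · intro h3
        exact CTwoTab.Fi23.hac (mul_left_cancel (mul_right_cancel h3)).symm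
    rw [ncard_eleven hx] at h6
    exact absurd h6 (by norm_num)

/-- the 2-elements of order at most 4 commuting with an element of order 11 and `z0` -/
theorem four_z0 {x s : Fi23} (hx : orderOf x = 11) (hxz : x * z0 = z0 * x) (hsx : x * s = s * x) (hsz : s * z0 = z0 * s)
    (hs : s ^ 4 = 1) : s * s = 1 ∨ s * s = z0 := by
  have hfin := finite_fi23
  obtain ⟨k, hk, hk11⟩ := exists_pi (r := 11) (by norm_num) (by norm_num) hx hxz
  let l : K := ⟨s, (mem_K_iff s).2 hsz⟩
  have hkl : pi l * pi k = pi k * pi l := by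
    rw [← map_mul, ← map_mul]
    congr 1
    apply Subtype.ext
    show s * (k : Fi23) = k * s
    rw [hk]
    exact hsx.symm
  have hfin22 : Finite Fi22 := ctx22.finite
  have h1 : orderOf (pi l) ∣ 22 := by
    rw [← H713.Spor.Fi22.cent_11 (MulEquiv.refl Fi22) hk11,
      ← Subgroup.orderOf_mk (pi l) (mem_centralizer_singleton_iff.2 hkl)]
    exact orderOf_dvd_natCard _
  have h2 : orderOf (pi l) ∣ 4 := orderOf_dvd_of_pow_eq_one (by
    rw [← map_pow]
    have : l ^ 4 = 1 := Subtype.ext (by rw [Subgroup.coe_pow]; exact hs)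
    rw [this, map_one])
  have h3 : orderOf (pi l) ∣ 2 := by
    have := Nat.dvd_gcd h1 h2
    norm_num at this
    exact this
  have h4 : pi (l * l) = 1 := by
    rw [map_mul, ← pow_two]
    exact orderOf_dvd_iff_pow_eq_one.1 h3
  rcases (pi_ker _).1 h4 with h5 | h5
  · left
    exact congrArg Subtype.val h5
  · right
    exact congrArg Subtype.val h5

theorem four_d {x s d : Fi23} (hx : orderOf x = 11) (hd : d ∈ Fx x) (hsx : x * s = s * x) (hsd : s * d = d * s)
    (hs : s ^ 4 = 1) : s * s = 1 ∨ s * s = d := by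
  obtain ⟨c, hc⟩ := isConj_iff.1 (show IsConj z0 d from hd.1)
  have h0 : c⁻¹ * d * c = z0 := by rw [← hc]; group
  have h1 := cj_comm (c := c) hd.2
  rw [h0] at h1
  have h2 := cj_comm (c := c) hsd
  rw [h0] at h2
  have h3 : (c⁻¹ * s * c) ^ 4 = 1 := by
    have e : c⁻¹ * s * c = c⁻¹ * s * c⁻¹⁻¹ := by rw [inv_inv]
    rw [e, conj_pow, hs]
    group
  rcases four_z0 (by rw [orderOf_cj]; exact hx) h1 (cj_comm (c := c) hsx) h2 h3 with h | h
  · left
    calc s * s = c * (c⁻¹ * s * c * (c⁻¹ * s * c)) * c⁻¹ := by group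
      _ = 1 := by rw [h]; group
  · right
    calc s * s = c * (c⁻¹ * s * c * (c⁻¹ * s * c)) * c⁻¹ := by group
      _ = d := by rw [h, hc]

/-- **an element commuting with an element `x` of order 11 fixes the transpositions commuting with `x`** -/
theorem fx_eleven {x g d : Fi23} (hx : orderOf x = 11) (hg : x * g = g * x) (hd : d ∈ Fx x) : g * d = d * g := by
  have hfin := finite_fi23
  by_contra hcon
  -- the other transposition
  have hswap : ∀ t : Fi23, x * t = t * x → t * d ≠ d * t → ∃ e ∈ Fx x, e ≠ d ∧ t * d * t⁻¹ = e ∧ t * e * t⁻¹ = d := by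
    intro t ht htd
    have he : t * d * t⁻¹ ∈ Fx x := fx_conj ht hd
    have hne : t * d * t⁻¹ ≠ d := fun h => htd (by rw [mul_inv_eq_iff_eq_mul] at h; exact h)
    have he2 : t * (t * d * t⁻¹) * t⁻¹ ∈ Fx x := fx_conj ht he
    refine ⟨_, he, hne, rfl, ?_⟩
    by_contra h3
    have h4 : t * (t * d * t⁻¹) * t⁻¹ ≠ t * d * t⁻¹ := fun h => hne (mul_left_cancel (mul_right_cancel h))
    have h6 : 2 < (Fx x).ncard := by
      rw [Set.two_lt_ncard_iff (finite_set _)]
      exact ⟨_, _, _, he2, he, hd, h4, h3, hne⟩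
    rw [ncard_eleven hx] at h6
    exact absurd h6 (by norm_num)
  have honly : ∀ e ∈ Fx x, e ≠ d → ∀ f ∈ Fx x, f = d ∨ f = e := by
    intro e he hne f hf
    by_contra h3
    push Not at h3
    have h6 : 2 < (Fx x).ncard := by
      rw [Set.two_lt_ncard_iff (finite_set _)]
      exact ⟨_, _, _, hf, he, hd, h3.2, h3.1, hne⟩
    rw [ncard_eleven hx] at h6
    exact absurd h6 (by norm_num)
  -- a 2-element which moves `d`
  obtain ⟨k, m, hm, hkm⟩ := Nat.exists_eq_two_pow_mul_odd (orderOf_pos g).ne'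
  obtain ⟨t, ht⟩ : ∃ t, t = g ^ m := ⟨_, rfl⟩
  have htx : x * t = t * x := by rw [ht]; exact (Commute.pow_right hg m).eq
  have htd : t * d ≠ d * t := by
    intro h1
    obtain ⟨e, he, hne, h2, h3⟩ := hswap g hg hcon
    -- `g ^ 2` commutes with `d`
    have h4 : Commute (g ^ 2) d := by
      show g ^ 2 * d = d * g ^ 2
      calc g ^ 2 * d = g * (g * d * g⁻¹) * g⁻¹ * (g * g) := by rw [pow_two]; group
        _ = d * g ^ 2 := by rw [h2, h3, pow_two]
    obtain ⟨n, rfl⟩ := hm
    have h5 : Commute (g ^ (2 * n + 1)) d := by rw [← ht]; exact h1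
    have h6 : g = g ^ (2 * n + 1) * ((g ^ 2) ^ n)⁻¹ := by
      rw [pow_succ', pow_mul]; group
    apply hcon
    have h7 : Commute g d := by
      rw [h6]
      exact h5.mul_left (h4.pow_left n).inv_left
    exact h7.eq
  have hto : t ^ 2 ^ k = 1 := by
    rw [ht, ← pow_mul, mul_comm, ← hkm, pow_orderOf_eq_one]
  obtain ⟨e, he, hne, hte, hte2⟩ := hswap t htx htd
  have hdd : d * d = 1 := sq_D hd.1
  have hee : e * e = 1 := sq_D he.1
  have honly' := honly e he hne
  -- an involution commuting with `x` and `t` is `d * e`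
  have hinv : ∀ u : Fi23, u * u = 1 → u ≠ 1 → x * u = u * x → (u = d ∨ u = e ∨ u = d * e) ∧ d * e = e * d ∨
      (u = d ∨ u = e) := by
    intro u hu hu1 hux
    rcases inv_eleven hx hu hu1 hux with h | ⟨d', hd', e', he', hne', hcm, hu2⟩
    · right
      exact honly' u h
    · left
      rcases honly' d' hd' with h1 | h1 <;> rcases honly' e' he' with h2 | h2
      · exact absurd (h1.trans h2.symm) hne'
      · rw [h1, h2] at hcm hu2
        exact ⟨Or.inr (Or.inr hu2), hcm⟩
      · rw [h1, h2] at hcm hu2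
        exact ⟨Or.inr (Or.inr (by rw [hu2, hcm])), hcm.symm⟩
      · exact absurd (h1.trans h2.symm) hne'
  -- the order of `t`
  have hd_t : t * d * t⁻¹ ≠ d := by rw [hte]; exact hne
  have he_t : t * e * t⁻¹ ≠ e := by rw [hte2]; exact hne.symm
  rcases k with _ | k
  · rw [pow_zero, pow_one] at hto
    rw [hto] at htd
    exact htd (by group)
  -- find the first `j` with `t ^ 2 ^ (j + 1) = 1`
  obtain ⟨j, hj1, hj2⟩ : ∃ j : ℕ, t ^ 2 ^ (j + 1) = 1 ∧ t ^ 2 ^ j ≠ 1 := by
    have hex : ∃ n : ℕ, t ^ 2 ^ n = 1 := ⟨_, hto⟩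
    classical
    have h1 := Nat.find_spec hex
    rcases hn : Nat.find hex with _ | n
    · rw [hn, pow_zero, pow_one] at h1
      exfalso
      rw [h1] at htd
      exact htd (by group)
    · refine ⟨n, by rwa [hn] at h1, fun h2 => ?_⟩
      exact Nat.find_min hex (m := n) (by rw [hn]; exact Nat.lt_succ_self n) h2
  have huu : t ^ 2 ^ j * t ^ 2 ^ j = 1 := by
    rw [← pow_add, ← two_mul, ← pow_succ']; exact hj1
  have hux : x * t ^ 2 ^ j = t ^ 2 ^ j * x := (Commute.pow_right htx _).eq
  have hut : t * t ^ 2 ^ j * t⁻¹ = t ^ 2 ^ j := by group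
  have hu := hinv _ huu hj2 hux
  have hude : t ^ 2 ^ j = d * e ∧ d * e = e * d := by
    rcases hu with ⟨h1 | h1 | h1, h2⟩ | h1 | h1
    · rw [h1] at hut; exact absurd hut hd_t
    · rw [h1] at hut; exact absurd hut he_t
    · exact ⟨h1, h2⟩
    · rw [h1] at hut; exact absurd hut hd_t
    · rw [h1] at hut; exact absurd hut he_t
  obtain ⟨hude, hde⟩ := hude
  rcases j with _ | _ | j
  · -- `t = d * e`
    rw [pow_zero, pow_one] at hude
    apply htd
    rw [hude]
    rw [mul_assoc, hde]
  · -- `t ^ 2 = d * e`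
    rw [zero_add, pow_one] at hude
    have h1 : t * d ≠ 1 := by
      intro h1
      apply htd
      rw [eq_inv_of_mul_eq_one_left h1]
      group
    have h2 : (t * d) * (t * d) = 1 := by
      have h3 : t * d = e * t := by rw [← hte]; group
      calc (t * d) * (t * d) = t * (d * t) * d := by group
        _ = (t * t) * e * d := by
            have h4 : d * t = t * e := by rw [← hte2]; group
            rw [h4]; group
        _ = d * e * e * d := by rw [← pow_two, hude]
        _ = 1 := by rw [mul_assoc d e e, hee, mul_one, hdd]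
    have h3 : x * (t * d) = (t * d) * x := (Commute.mul_right htx hd.2).eq
    have h4 := hinv _ h2 h1 h3
    have h5 : t * d = d ∨ t * d = e ∨ t * d = d * e := by
      rcases h4 with ⟨h4, -⟩ | h4 | h4
      · exact h4
      · exact Or.inl h4
      · exact Or.inr (Or.inl h4)
    rcases h5 with h5 | h5 | h5
    · have h6 : t = 1 := by
        have : t * d = 1 * d := by rw [h5, one_mul]
        exact mul_right_cancel this
      apply htd
      rw [h6]; group
    · apply htd
      have h6 : t = e * d := by rw [← h5, mul_assoc, hdd, mul_one]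
      rw [h6]
      calc e * d * d = e * (d * d) := by group
        _ = (d * d) * e := by rw [hdd]; group
        _ = d * (e * d) := by rw [mul_assoc, hde]
    · apply htd
      have h6 : t = d * e * d := by rw [← h5, mul_assoc, hdd, mul_one]
      rw [hde, mul_assoc, hdd, mul_one] at h6
      rw [h6, hde]
  · -- an element of order 4 which fixes `d`
    have hs : Commute (t ^ 2 ^ (j + 1)) d := by
      have h4 : Commute (t ^ 2) d := by
        show t ^ 2 * d = d * t ^ 2
        calc t ^ 2 * d = t * (t * d * t⁻¹) * t⁻¹ * (t * t) := by rw [pow_two]; group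
          _ = d * t ^ 2 := by rw [hte, hte2, pow_two]
      rw [pow_succ', pow_mul]
      exact h4.pow_left _
    have hsx : x * t ^ 2 ^ (j + 1) = t ^ 2 ^ (j + 1) * x := (Commute.pow_right htx _).eq
    have h4 : (t ^ 2 ^ (j + 1)) ^ 4 = 1 := by
      rw [← pow_mul]
      have : 2 ^ (j + 1) * 4 = 2 ^ (j + 1 + 1 + 1) := by rw [pow_succ, pow_succ (2 : ℕ) (j + 1 + 1), pow_succ (2 : ℕ) (j + 1)]; ring
      rw [this]
      exact hj1
    have h5 : t ^ 2 ^ (j + 1) * t ^ 2 ^ (j + 1) = t ^ 2 ^ (j + 1 + 1) := by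
      rw [← pow_add, ← two_mul, ← pow_succ']
    rcases four_d hx hd hsx hs.eq h4 with h6 | h6
    · rw [h5] at h6
      exact hj2 h6
    · rw [h5, hude] at h6
      have h7 : e = 1 := by
        have : d * e = d * 1 := by rw [h6, mul_one]
        exact mul_left_cancel this
      exact ne_one_D he.1 h7

/-- the number of the transpositions commuting with an element of order divisible by 11 -/
theorem ncard_of_eleven {g : Fi23} (hg : 11 ∣ orderOf g) : (Fx g).ncard = 2 := by
  have hfin := finite_fi23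
  obtain ⟨m, hm⟩ := hg
  have hm0 : m ≠ 0 := by
    rintro rfl
    rw [mul_zero] at hm
    exact (orderOf_pos g).ne' hm
  have hx : orderOf (g ^ m) = 11 := by
    rw [orderOf_pow_of_dvd hm0 ⟨11, by rw [hm, mul_comm]⟩, hm]
    exact Nat.mul_div_cancel _ (Nat.pos_of_ne_zero hm0)
  have hcomm : g ^ m * g = g * g ^ m := (Commute.pow_self g m).eq
  rw [← ncard_eleven hx]
  congr 1
  ext d
  constructor
  · rintro ⟨h1, h2⟩
    exact ⟨h1, (Commute.pow_left h2 m).eq⟩
  · intro h
    exact ⟨h.1, fx_eleven hx hcomm h⟩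

/-! ### Order 17 -/

theorem not_sq {p : ℕ} (hp : p = 7 ∨ p = 11 ∨ p = 13 ∨ p = 17 ∨ p = 23) : ¬ p ^ 2 ∣ Nat.card Fi23 := by
  rw [fi23_card]
  rcases hp with rfl | rfl | rfl | rfl | rfl <;> norm_num

theorem card_of_surj {G : Type*} [Group G] {p n : ℕ} {A : Subgroup G} (f : A →* Equiv.Perm (Fin n))
    (hf : Function.Surjective f) (hk : Nat.card f.ker = p) : Nat.card A = n.factorial * p := by
  rw [← f.ker.index_mul_card, Subgroup.index_ker, MonoidHom.range_eq_top.2 hf, hk, Subgroup.card_top]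
  congr 1
  rw [Nat.card_eq_fintype_card, Fintype.card_perm, Fintype.card_fin]

theorem card_cent_five {x : Fi23} (hx : orderOf x = 5) : Nat.card (centralizer ({x} : Set Fi23)) = 5040 * 5 := by
  obtain ⟨f, hf, hk⟩ := H870.IMFi23.exists_surj_elt hx (H838.Fi23.five_main (zpowers x) (by rw [Nat.card_zpowers, hx]))
  exact card_of_surj f hf hk

theorem card_cent_seven {x : Fi23} (hx : orderOf x = 7) : Nat.card (centralizer ({x} : Set Fi23)) = 120 * 7 := by
  obtain ⟨f, hf, hk⟩ := H870.IMFi23.exists_surj_elt hx (H839.Fi23.seven_main (zpowers x) (by rw [Nat.card_zpowers, hx]))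
  exact card_of_surj f hf hk

theorem dvd_of_comm {G : Type*} [Group G] [Finite G] {x y : G} {p : ℕ} (hx : orderOf x = p) (hxy : x * y = y * x) :
    p ∣ Nat.card (centralizer ({y} : Set G)) := by
  rw [← hx, ← Subgroup.orderOf_mk x (mem_centralizer_singleton_iff.2 hxy)]
  exact orderOf_dvd_natCard _

theorem cent_zp {G : Type*} [Group G] (x : G) : centralizer ((zpowers x : Subgroup G) : Set G) = centralizer ({x} : Set G) := by
  ext g
  rw [mem_centralizer_singleton_iff]
  constructor
  · intro h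
    exact (mem_centralizer_iff.1 h x (mem_zpowers x)).symm
  · intro h
    rw [mem_centralizer_iff]
    rintro _ ⟨i, rfl⟩
    exact (Commute.zpow_left (show Commute x g from h.symm) i).eq

/-- the primes dividing the order of the centralizer -/
theorem prime_seventeen {x y : Fi23} (hx : orderOf x = 17) {s : ℕ} (hs : s.Prime) (hy : orderOf y = s)
    (hxy : x * y = y * x) : s = 17 ∨ s = 23 := by
  have hfin := finite_fi23
  have hd : s ∣ Nat.card Fi23 := by rw [← hy]; exact orderOf_dvd_natCard y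
  rw [fi23_card] at hd
  rcases Nat.lt_or_ge s 5 with h5 | h5
  · exfalso
    have : s = 2 ∨ s = 3 := by
      have := hs.two_le
      have h4 : s ≠ 4 := by rintro rfl; norm_num at hs
      omega
    rcases this with rfl | rfl
    · exact H713.Spor.Fi23.not_dvd (p := 17) (by norm_num) (by norm_num) (by norm_num) (by norm_num) y hy
        (dvd_of_comm hx hxy)
    · obtain ⟨g, i, hg⟩ := LThreeFi23.conj_seventeen (y := x) (by rw [← hx, pow_orderOf_eq_one])
      have hx1 : x ≠ 1 := by
        rintro rfl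
        rw [orderOf_one] at hx
        norm_num at hx
      have h1 := LThreeFi23.comm_of_conj_zpow (p := 17) (by norm_num) LThreeFi23.pow17 hx1 hxy.symm hg
      have h2 := LThreeFi23.r17 (LThreeFi23.conj_Tel (LThreeFi23.Tel.of_three (by rw [← hy, pow_orderOf_eq_one])) g) h1
      have h3 : y = 1 := by
        calc y = g⁻¹ * (g * y * g⁻¹) * g := by group
          _ = 1 := by rw [h2]; group
      rw [h3, orderOf_one] at hy
      norm_num at hy
  · rcases LThreeFi23.prime_cases hs h5 hd with rfl | rfl | rfl | rfl | rfl | rfl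
    · exfalso
      have h1 := dvd_of_comm hx hxy
      rw [card_cent_five hy] at h1
      revert h1
      norm_num
    · exfalso
      have h1 := dvd_of_comm hx hxy
      rw [card_cent_seven hy] at h1
      revert h1
      norm_num
    · exact (eleven hy (s := 17) (by norm_num) (by norm_num) (by norm_num) hx hxy.symm).elim
    · exact (H163.PG.FiTT.thirteen hy (s := 17) (by norm_num) (by norm_num) (by norm_num) hx hxy.symm).elim
    · exact Or.inl rfl
    · exact Or.inr rfl

/-- **Elements of order 17 are self-centralizing.** -/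
theorem card_cent_17 {x : Fi23} (hx : orderOf x = 17) : Nat.card (centralizer ({x} : Set Fi23)) = 17 := by
  have hfin := finite_fi23
  have f17 : Fact (Nat.Prime 17) := ⟨by norm_num⟩
  set C := centralizer ({x} : Set Fi23) with hC
  have h17 : 17 ∣ Nat.card C := dvd_of_comm hx rfl
  obtain ⟨c, hc⟩ := h17
  have hcd : Nat.card C ∣ Nat.card Fi23 := Subgroup.card_subgroup_dvd_card C
  have hc0 : c ≠ 0 := by
    rintro rfl
    rw [mul_zero] at hc
    exact Nat.card_pos.ne' hc
  -- the primes dividing `c`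
  have hpr : ∀ s : ℕ, s.Prime → s ∣ c → s = 23 := by
    intro s hs hsc
    have := Fact.mk hs
    obtain ⟨y, hy⟩ := exists_prime_orderOf_dvd_card' (G := C) s (hc ▸ Dvd.dvd.mul_left hsc 17)
    have h1 : orderOf (y : Fi23) = s := by rw [Subgroup.orderOf_coe, hy]
    rcases prime_seventeen hx hs h1 (mem_centralizer_singleton_iff.1 y.2).symm with h2 | h2
    · exfalso
      subst h2
      apply not_sq (p := 17) (by norm_num)
      refine dvd_trans ?_ hcd
      rw [hc, pow_two]
      exact mul_dvd_mul_left 17 hsc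
    · exact h2
  have hc2 : c = 1 ∨ c = 23 := by
    have h1 : c ∣ 23 := by
      have h2 : ¬ 23 ^ 2 ∣ c := by
        intro h
        apply not_sq (p := 23) (by norm_num)
        exact h.trans ((Dvd.intro_left 17 hc.symm).trans hcd)
      have h3 : c = 23 ^ c.primeFactorsList.length :=
        Nat.eq_prime_pow_of_unique_prime_dvd hc0 fun {s} hs hsc => hpr s hs hsc
      rw [h3] at h2 ⊢
      have h4 : c.primeFactorsList.length < 2 := by
        by_contra hcon
        push Not at hcon
        exact h2 (pow_dvd_pow 23 hcon)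
      calc 23 ^ c.primeFactorsList.length ∣ 23 ^ 1 := pow_dvd_pow 23 (by omega)
        _ = 23 := pow_one 23
    exact (Nat.dvd_prime (by norm_num)).1 h1
  rcases hc2 with rfl | rfl
  · rw [hc, mul_one]
  -- Sylow's theorem
  exfalso
  have hzp : IsPGroup 17 (zpowers x) := IsPGroup.of_card (n := 1) (by rw [Nat.card_zpowers, hx, pow_one])
  obtain ⟨P, hP⟩ := hzp.exists_le_sylow
  have hPc : Nat.card P = 17 := H661.Spor.card_sylow_eq P (by rw [fi23_card]; norm_num) (not_sq (by norm_num))
  have hPz : zpowers x = (P : Subgroup Fi23) :=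
    Subgroup.eq_of_le_of_card_ge hP (by
      have h1 : Nat.card (P : Subgroup Fi23) = 17 := hPc
      rw [h1, Nat.card_zpowers, hx])
  have hcP : centralizer ((P : Subgroup Fi23) : Set Fi23) = C := by
    rw [← hPz, hC, cent_zp]
  have hCN : centralizer ((P : Subgroup Fi23) : Set Fi23) ≤ normalizer ((P : Subgroup Fi23) : Set Fi23) :=
    Subgroup.centralizer_le_normalizer _
  have he2 := Cfsg.Agent.J2Type.SylowSeven.relIndex_dvd_of_card_prime (P : Subgroup Fi23) (by norm_num) hPc
  have hn := card_sylow_modEq_one 17 Fi23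
  have h3 : Nat.card (Sylow 17 Fi23) = (normalizer ((P : Subgroup Fi23) : Set Fi23)).index :=
    Sylow.card_eq_index_normalizer P
  have h4 : (centralizer ((P : Subgroup Fi23) : Set Fi23)).relIndex (normalizer ((P : Subgroup Fi23) : Set Fi23)) *
      Nat.card (centralizer ((P : Subgroup Fi23) : Set Fi23)) = Nat.card (normalizer ((P : Subgroup Fi23) : Set Fi23)) := by
    rw [mul_comm]
    exact Cfsg.Agent.J2Type.SylowSeven.card_mul_relIndex' hCN
  have h5 := (normalizer ((P : Subgroup Fi23) : Set Fi23)).card_mul_index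
  rw [← h4, ← h3, hcP, hc, fi23_card] at h5
  rw [hcP] at he2
  generalize (C.relIndex (normalizer ((P : Subgroup Fi23) : Set Fi23))) = e at he2 h5
  generalize Nat.card (Sylow 17 Fi23) = n at hn h5
  unfold Nat.ModEq at hn
  have h6 : e = 1 ∨ e = 2 ∨ e = 4 ∨ e = 8 ∨ e = 16 := by
    have h7 : e ∣ 2 ^ 4 := he2
    obtain ⟨i, hi, rfl⟩ := (Nat.dvd_prime_pow Nat.prime_two).1 h7
    interval_cases i <;> simp
  rcases h6 with rfl | rfl | rfl | rfl | rfl <;> omega

/-! ### Order 7 -/

theorem perm_five : ∀ u : Equiv.Perm (Fin 5), u * u = 1 → ∀ v : Equiv.Perm (Fin 5), v * v = 1 → u * v = v * u →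
    ∀ w : Equiv.Perm (Fin 5), w * w = 1 → u * w = w * u → v * w = w * v →
    u = 1 ∨ v = 1 ∨ w = 1 ∨ u * v = 1 ∨ u * w = 1 ∨ v * w = 1 ∨ u * v * w = 1 := by
  (set_option synthInstance.maxSize 9000 in open scoped Cfsg.Agent.Lib.FastPerm in decide +kernel)

/-- no element of order 7 commutes with `W3` -/
theorem seven_W3 {y : Fi23} (hy : orderOf y = 7) (h : y * W3 = W3 * y) : False := by
  have hfin := finite_fi23
  have h2 := H393.Iso.comm_of_small (p := 7) (by norm_num) (Z := Ds3) (Set.toFinite _) hy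
    (fun z hz => CTwoTab.Fi23.perm3 CTwoTab.Fi23.hac h hz) (by
      have h1 := Set.ncard_insert_le z0 ({Fi23Hom.gen .a, Fi23Hom.gen .c} : Set Fi23)
      have h2 := Set.ncard_insert_le (Fi23Hom.gen .a) ({Fi23Hom.gen .c} : Set Fi23)
      rw [Set.ncard_singleton] at h2
      exact lt_of_le_of_lt h1 (by omega))
  obtain ⟨f, hf, hk⟩ := H870.IMFi23.exists_surj_elt hy (H839.Fi23.seven_main (zpowers y) (by rw [Nat.card_zpowers, hy]))
  have hker : ∀ u : centralizer ({y} : Set Fi23), u * u = 1 → f u = 1 → u = 1 := by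
    intro u hu hfu
    have h3 : orderOf u ∣ 7 := by
      rw [← hk, ← Subgroup.orderOf_mk u (MonoidHom.mem_ker.2 hfu)]
      exact orderOf_dvd_natCard _
    have h4 : orderOf u ∣ 2 := orderOf_dvd_of_pow_eq_one (by rw [pow_two, hu])
    have h5 := Nat.dvd_gcd h3 h4
    norm_num at h5
    exact h5
  have hzz : z0 * z0 = 1 := KFacts.FiTTh.Cent.zz
  have haa : (Fi23Hom.gen Gen.a : Fi23) * Fi23Hom.gen .a = 1 := Fi23Final.gen_sq .a
  have hcc : (Fi23Hom.gen Gen.c : Fi23) * Fi23Hom.gen .c = 1 := Fi23Final.gen_sq .c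
  have hza : z0 * Fi23Hom.gen .a = Fi23Hom.gen .a * z0 := (KFacts.FiTTh.Cent.z_gen .a (by decide)).symm
  have hzc : z0 * Fi23Hom.gen .c = Fi23Hom.gen .c * z0 := (KFacts.FiTTh.Cent.z_gen .c (by decide)).symm
  have hca : (Fi23Hom.gen Gen.a : Fi23) * Fi23Hom.gen .c = Fi23Hom.gen .c * Fi23Hom.gen .a :=
    KFacts.FiTTh.Cent.gen_comm' (by decide)
  let U : centralizer ({y} : Set Fi23) := ⟨z0, mem_centralizer_singleton_iff.2 (h2 z0 (Or.inl rfl)).symm⟩
  let V : centralizer ({y} : Set Fi23) := ⟨Fi23Hom.gen .a, mem_centralizer_singleton_iff.2 (h2 _ (Or.inr (Or.inl rfl))).symm⟩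
  let W : centralizer ({y} : Set Fi23) := ⟨Fi23Hom.gen .c, mem_centralizer_singleton_iff.2 (h2 _ (Or.inr (Or.inr rfl))).symm⟩
  have hU : U * U = 1 := Subtype.ext hzz
  have hV : V * V = 1 := Subtype.ext haa
  have hW : W * W = 1 := Subtype.ext hcc
  have hUV : U * V = V * U := Subtype.ext hza
  have hUW : U * W = W * U := Subtype.ext hzc
  have hVW : V * W = W * V := Subtype.ext hca
  have hUV2 : (U * V) * (U * V) = 1 := by
    calc (U * V) * (U * V) = U * (V * U) * V := by group
      _ = (U * U) * (V * V) := by rw [← hUV]; group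
      _ = 1 := by rw [hU, hV, one_mul]
  have hUW2 : (U * W) * (U * W) = 1 := by
    calc (U * W) * (U * W) = U * (W * U) * W := by group
      _ = (U * U) * (W * W) := by rw [← hUW]; group
      _ = 1 := by rw [hU, hW, one_mul]
  have hVW2 : (V * W) * (V * W) = 1 := by
    calc (V * W) * (V * W) = V * (W * V) * W := by group
      _ = (V * V) * (W * W) := by rw [← hVW]; group
      _ = 1 := by rw [hV, hW, one_mul]
  have hUVW : U * V * W = W * (U * V) := by
    calc U * V * W = U * (V * W) := by group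
      _ = (U * W) * V := by rw [hVW]; group
      _ = W * (U * V) := by rw [hUW]; group
  have hUVW2 : (U * V * W) * (U * V * W) = 1 := by
    calc (U * V * W) * (U * V * W) = (U * V) * (W * (U * V)) * W := by group
      _ = ((U * V) * (U * V)) * (W * W) := by rw [← hUVW]; group
      _ = 1 := by rw [hUV2, hW, one_mul]
  have key := perm_five (f U) (by rw [← map_mul, hU, map_one]) (f V) (by rw [← map_mul, hV, map_one])
    (by rw [← map_mul, ← map_mul, hUV]) (f W) (by rw [← map_mul, hW, map_one]) (by rw [← map_mul, ← map_mul, hUW])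
    (by rw [← map_mul, ← map_mul, hVW])
  simp only [← map_mul] at key
  have hz1 : z0 ≠ 1 := ne_one_D z0_mem_D
  rcases key with k | k | k | k | k | k | k
  · exact hz1 (congrArg Subtype.val (hker _ hU k))
  · exact ne_one_D (gen_mem_D .a) (congrArg Subtype.val (hker _ hV k))
  · exact ne_one_D (gen_mem_D .c) (congrArg Subtype.val (hker _ hW k))
  · have k2 : z0 * Fi23Hom.gen .a = 1 := congrArg Subtype.val (hker _ hUV2 k)
    exact KFacts.FiTTh.Cent.ne_gen_a (mul_left_cancel (a := z0) (k2.trans hzz.symm))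
  · have k2 : z0 * Fi23Hom.gen .c = 1 := congrArg Subtype.val (hker _ hUW2 k)
    exact KFacts.FiTTh.Cent.ne_gen_c (mul_left_cancel (a := z0) (k2.trans hzz.symm))
  · have k2 : (Fi23Hom.gen Gen.a : Fi23) * Fi23Hom.gen .c = 1 := congrArg Subtype.val (hker _ hVW2 k)
    exact CTwoTab.Fi23.hac (mul_left_cancel (a := (Fi23Hom.gen Gen.a : Fi23)) (k2.trans haa.symm))
  · have k2 : z0 * Fi23Hom.gen .a * Fi23Hom.gen .c = 1 := congrArg Subtype.val (hker _ hUVW2 k)
    -- `z0 a = c`, so `13` divides `|C(z0 a)|`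
    have k3 : W2 = Fi23Hom.gen .c := by
      unfold W2
      calc z0 * Fi23Hom.gen .a = z0 * Fi23Hom.gen .a * (Fi23Hom.gen .c * Fi23Hom.gen .c) := by rw [hcc, mul_one]
        _ = Fi23Hom.gen .c := by rw [← mul_assoc, k2, one_mul]
    have k4 : IsConj z0 W2 := by rw [k3]; exact gen_mem_D .c
    have k5 := KFacts.FiTTh.Cent.thirteen
    rw [KFacts.FiTTh.Has.card_cent_of_isConj k4] at k5
    exact KFacts.FiTTh.Cent.c2 k5

/-- **the involutions which invert an element of order 17 commute with no element of order 7** -/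
theorem not_dvd_seven {x t : Fi23} (hx : orderOf x = 17) (ht : orderOf t = 2) (htx : t * x * t⁻¹ = x⁻¹) :
    ¬ 7 ∣ Nat.card (centralizer ({t} : Set Fi23)) := by
  have hfin := finite_fi23
  have ht2 : t * t = 1 := by rw [← pow_two, ← ht, pow_orderOf_eq_one]
  have ht1 : t ≠ 1 := by
    rintro rfl
    rw [orderOf_one] at ht
    norm_num at ht
  have hti : t⁻¹ = t := inv_eq_of_mul_eq_one_left ht2
  -- `x = t * (y⁻¹ * t * y)` with `y = x ^ 9`
  have hx17 : x ^ 17 = 1 := by rw [← hx, pow_orderOf_eq_one]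
  have hy : ∀ n : ℕ, t * x ^ n * t⁻¹ = (x ^ n)⁻¹ := by
    intro n
    rw [← conj_pow, htx, inv_pow]
  have hxt : x = t * ((x ^ 9)⁻¹ * t * x ^ 9) := by
    have h1 : (x ^ 9)⁻¹ * t = t * x ^ 9 := by
      have h2 := hy 9
      rw [← h2]
      group
    rw [h1]
    calc x = 1 * x ^ 17 * x := by rw [hx17]; group
      _ = t * (t * x ^ 9 * x ^ 9) := by
        rw [← ht2]
        group
  have hne : ∀ n : ℕ, n = 6 ∨ n = 60 → x ^ n ≠ 1 := by
    intro n hn h
    have h1 : 17 ∣ n := by rw [← hx]; exact orderOf_dvd_of_pow_eq_one h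
    rcases hn with rfl | rfl <;> omega
  have hCB : ∀ d ∈ D, ∀ d' ∈ D, CB d d' := by
    intro d hd d' hd'
    rcases three_D hd hd' with h | h
    · exact Or.inl h
    · right
      exact LThreeFi23.braid_of_three (sq_D hd) (sq_D hd') h
  rcases KFacts.FiTTh.Has.inv t ht2 ht1 with h | h | h
  · exfalso
    have htD : t ∈ D := h.symm
    have ht'D : (x ^ 9)⁻¹ * t * x ^ 9 ∈ D := by
      have := conj_mem_D htD (x ^ 9)⁻¹
      rwa [inv_inv] at this
    apply hne 6 (Or.inl rfl)
    rw [hxt]
    exact (hCB _ htD _ ht'D).pow_six (sq_D htD) (sq_D ht'D)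
  · exfalso
    obtain ⟨c, hc⟩ := isConj_iff.1 h.symm
    have h1 : (c * z0 * c⁻¹) ∈ D := conj_mem_D z0_mem_D c
    have h2 : (c * Fi23Hom.gen .a * c⁻¹) ∈ D := conj_mem_D (gen_mem_D .a) c
    have h3 := conj_mem_D h1 (x ^ 9)⁻¹
    have h4 := conj_mem_D h2 (x ^ 9)⁻¹
    have hza : z0 * Fi23Hom.gen .a = Fi23Hom.gen .a * z0 := (KFacts.FiTTh.Cent.z_gen .a (by decide)).symm
    have h5 : (c * z0 * c⁻¹) * (c * Fi23Hom.gen .a * c⁻¹) = (c * Fi23Hom.gen .a * c⁻¹) * (c * z0 * c⁻¹) := by
      calc (c * z0 * c⁻¹) * (c * Fi23Hom.gen .a * c⁻¹) = c * (z0 * Fi23Hom.gen .a) * c⁻¹ := by group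
        _ = (c * Fi23Hom.gen .a * c⁻¹) * (c * z0 * c⁻¹) := by rw [hza]; group
    have h6 : ((x ^ 9)⁻¹ * (c * z0 * c⁻¹) * (x ^ 9)⁻¹⁻¹) * ((x ^ 9)⁻¹ * (c * Fi23Hom.gen .a * c⁻¹) * (x ^ 9)⁻¹⁻¹) =
        ((x ^ 9)⁻¹ * (c * Fi23Hom.gen .a * c⁻¹) * (x ^ 9)⁻¹⁻¹) * ((x ^ 9)⁻¹ * (c * z0 * c⁻¹) * (x ^ 9)⁻¹⁻¹) :=
      comm_conj h5
    have h7 := pow_sixty (D := D) (fun d hd => sq_D hd) (fun g d hd => conj_mem_D hd g) hCB h1 h2 h3 h4 h5 h6
    apply hne 60 (Or.inr rfl)
    have e : x = (c * z0 * c⁻¹) * (c * Fi23Hom.gen .a * c⁻¹) * ((x ^ 9)⁻¹ * (c * z0 * c⁻¹) * (x ^ 9)⁻¹⁻¹) *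
        ((x ^ 9)⁻¹ * (c * Fi23Hom.gen .a * c⁻¹) * (x ^ 9)⁻¹⁻¹) := by
      calc x = t * ((x ^ 9)⁻¹ * t * x ^ 9) := hxt
        _ = (c * (z0 * Fi23Hom.gen .a) * c⁻¹) * ((x ^ 9)⁻¹ * (c * (z0 * Fi23Hom.gen .a) * c⁻¹) * x ^ 9) := by rw [hc]
        _ = _ := by group
    rw [e]
    exact h7
  · intro hd
    obtain ⟨c, hc⟩ := isConj_iff.1 h.symm
    have f7 : Fact (Nat.Prime 7) := ⟨by norm_num⟩
    obtain ⟨y, hy7⟩ := exists_prime_orderOf_dvd_card' 7 hd
    have hy' : orderOf (y : Fi23) = 7 := by rw [Subgroup.orderOf_coe, hy7]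
    have hyt := mem_centralizer_singleton_iff.1 y.2
    refine seven_W3 (y := c⁻¹ * (y : Fi23) * c) (by rw [orderOf_cj, hy']) ?_
    have h1 := cj_comm (c := c) hyt
    have h2 : c⁻¹ * t * c = W3 := by rw [← hc]; unfold W3; group
    rwa [h2] at h1

end Cfsg.Agent.H841.PB.FiTwentyThree
end
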