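import Cfsg.Agent.H825.HT.Tools
import Cfsg.Agent.H30.OneClass
import Cfsg.Agent.Blocks.Knorr
import Cfsg.Agent.H732.PB.AltSplit
import Cfsg.Agent.H841.PB.RankThree
import Cfsg.Agent.H841.PB.FiTwentyThreeA
import Cfsg.Agent.H394.PBTools_m3
import Cfsg.Agent.Prune
set_option linter.all false

section
prune_inst 0x7f00000000000000000000000000000000000000000000000000000000000000000000000000000000000000000000000000000000000000000000000000000000000000000000000000000000000000003fffffffffffffffffffffffffffbeffbdfbfeffff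

-- part: H732/PB/Crit
section
set_option linter.all false
open scoped Cfsg.Agent.FastGrp

/-!
# The row of the prime `2` for groups of Lie type of characteristic `2` (helper732)

* `BD.of_const` : an irreducible character with a nonzero constant value on the `q`-singular elements is in the
  principal `q`-block;
* `Crown p u G` : the prime `u ≠ p` divides `|G|` and the order of no proper subgroup of index prime to `p`;
* `row_of_alt` : `HasAlt 2 G` and `Crown 2 u G` give `Row 2 G`.
-/

set_option autoImplicit false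

namespace Cfsg.Agent.H732.PB

open Cfsg Cfsg.Agent Cfsg.Agent.H133.PB ComplexConjugate

universe u

/-- An irreducible character with a nonzero constant value on the `q`-singular elements is in the principal
`q`-block. -/
theorem mem_principalBlock_of_const {G : Type u} [Group G] [Finite G] {q : ℕ} [Fact q.Prime] {M : Ideal AlgInt}
    (hM : IsPModular q M) (χ : IrrCharacter G) {c : ℂ} (hc : c ≠ 0)
    (h : ∀ x : G, q ∣ orderOf x → (χ : G → ℂ) x = c) (hq : q ∣ Nat.card G) : χ ∈ principalBlock M G := by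
  classical
  have := Fintype.ofFinite G
  by_contra hcon
  have h1 := H30.OneClass.inner_eq_zero hM χ hcon
  unfold classInner at h1
  have h2 : ∑ g : G, (if q ∣ orderOf g then (1 : ℂ) else 0) * conj ((χ : G → ℂ) g) =
      ((Finset.univ.filter fun g : G => q ∣ orderOf g).card : ℂ) * conj c := by
    rw [Finset.card_eq_sum_ones, Nat.cast_sum, Finset.sum_mul, Finset.sum_filter]
    refine Finset.sum_congr rfl fun g _ => ?_
    split_ifs with hg
    · rw [h g hg, Nat.cast_one]
    · rw [zero_mul]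
  rw [h2] at h1
  obtain ⟨x, hx⟩ := exists_prime_orderOf_dvd_card' q hq
  have h3 : (Finset.univ.filter fun g : G => q ∣ orderOf g).card ≠ 0 := by
    rw [Ne, Finset.card_eq_zero, ← Ne, ← Finset.nonempty_iff_ne_empty]
    exact ⟨x, Finset.mem_filter.2 ⟨Finset.mem_univ _, by rw [hx]⟩⟩
  have h4 : conj c ≠ 0 := fun h0 => hc (by
    have := congrArg conj h0
    rwa [Complex.conj_conj, map_zero] at this)
  rcases mul_eq_zero.1 h1 with h5 | h5
  · exact (inv_ne_zero (Nat.cast_ne_zero.2 Nat.card_pos.ne')) h5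
  · rcases mul_eq_zero.1 h5 with h6 | h6
    · exact h3 (by exact_mod_cast h6)
    · exact h4 h6

theorem BD.of_const {G : Type u} [Group G] [Finite G] {p q : ℕ} [Fact q.Prime] (χ : IrrCharacter G) {c : ℂ}
    (hc : c ≠ 0) (h : ∀ x : G, q ∣ orderOf x → (χ : G → ℂ) x = c) (hq : q ∣ Nat.card G)
    (hp : p ∣ charDegree (χ : G → ℂ)) : BD p q G :=
  fun _ hM => ⟨χ, mem_principalBlock_of_const hM χ hc h hq, hp⟩

/-- The prime `u ≠ p` divides `|G|` and the order of no proper subgroup of index prime to `p`. -/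
def Crown (p u : ℕ) (G : Type u) [Group G] : Prop :=
  u.Prime ∧ u ≠ p ∧ u ∣ Nat.card G ∧ ∀ P : Subgroup G, P ≠ ⊤ → ¬ p ∣ P.index → ¬ u ∣ Nat.card P

/-- The alternating sum is even at `1`, for subgroups of odd index. -/
theorem even_of_alt {G : Type u} [Group G] [Finite G] {I : Type u} [Fintype I] [Nonempty I]
    (Q : Finset I → Subgroup G) (hQ : ∀ J, ¬ 2 ∣ (Q J).index) {χ : G → ℂ} (hχ : IsIrrCharacter G χ)
    (h : χ = fun g => ∑ J ∈ (Finset.univ : Finset I).powerset, (-1 : ℂ) ^ J.card * fixedPointCharacter (Q J) g) :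
    2 ∣ charDegree χ := by
  classical
  have h1 : (charDegree χ : ℂ) = χ 1 := (Blocks.Knorr.charDegree_eq hχ).symm
  have h2 : ∀ J, fixedPointCharacter (Q J) (1 : G) = ((Q J).index : ℂ) := by
    intro J
    unfold fixedPointCharacter
    have : MulAction.fixedBy (G ⧸ Q J) (1 : G) = Set.univ := by
      ext x
      simp
    rw [this]
    have h3 : Nat.card (Set.univ : Set (G ⧸ Q J)) = (Q J).index := by
      rw [Nat.card_congr (Equiv.Set.univ _)]
      rfl
    rw [h3]
  have h3 : ((charDegree χ : ℤ) : ℂ) =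
      ((∑ J ∈ (Finset.univ : Finset I).powerset, (-1 : ℤ) ^ J.card * ((Q J).index : ℤ) : ℤ) : ℂ) := by
    push_cast
    rw [h1, h]
    refine Finset.sum_congr rfl fun J _ => ?_
    rw [h2]
  have h4 : (charDegree χ : ℤ) =
      ∑ J ∈ (Finset.univ : Finset I).powerset, (-1 : ℤ) ^ J.card * ((Q J).index : ℤ) := by exact_mod_cast h3
  have h5 : (2 : ℤ) ∣ (charDegree χ : ℤ) - ((Finset.univ : Finset I).powerset.card : ℤ) := by
    rw [h4, Finset.card_eq_sum_ones, Nat.cast_sum, ← Finset.sum_sub_distrib]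
    refine Finset.dvd_sum fun J _ => ?_
    have h6 : ((Q J).index : ℤ) % 2 = 1 := by have := hQ J; omega
    rcases neg_one_pow_eq_or ℤ J.card with h7 | h7
    · rw [h7]; push_cast; omega
    · rw [h7]; push_cast; omega
  have h6 : (2 : ℤ) ∣ ((Finset.univ : Finset I).powerset.card : ℤ) := by
    rw [Finset.card_powerset, Finset.card_univ]
    have := Fintype.card_pos (α := I)
    exact_mod_cast dvd_pow_self 2 this.ne'
  have h7 := dvd_add h5 h6
  rw [sub_add_cancel] at h7
  exact_mod_cast h7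

theorem row_of_alt {G : Type u} [Group G] [Finite G] {q : ℕ} (h : HasAlt 2 G) (hc : Crown 2 q G) : Row 2 G := by
  classical
  obtain ⟨I, _, _, _, Q, hirr, htop, hne, hidx⟩ := h
  obtain ⟨hq, hq2, hd, hP⟩ := hc
  have := Fact.mk hq
  refine ⟨q, hq, hq2, hd, BD.of_const (χ := ⟨_, hirr⟩) (c := (-1 : ℂ) ^ (Finset.univ : Finset I).card)
    (pow_ne_zero _ (by norm_num)) ?_ hd (even_of_alt Q hidx hirr rfl)⟩
  intro x hx
  show ∑ J ∈ (Finset.univ : Finset I).powerset, (-1 : ℂ) ^ J.card * fixedPointCharacter (Q J) x = _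
  rw [Finset.sum_eq_single (Finset.univ : Finset I)]
  · have h1 : fixedPointCharacter (Q Finset.univ) x = 1 := by
      rw [htop]
      unfold fixedPointCharacter
      have h2 : Subsingleton (G ⧸ (⊤ : Subgroup G)) := QuotientGroup.subsingleton_quotient_top
      have h3 : MulAction.fixedBy (G ⧸ (⊤ : Subgroup G)) x = Set.univ := by
        ext y
        simp only [MulAction.mem_fixedBy, Set.mem_univ, iff_true]
        exact Subsingleton.elim _ _
      rw [h3, Nat.card_congr (Equiv.Set.univ _)]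
      have : Nat.card (G ⧸ (⊤ : Subgroup G)) = 1 := Subgroup.index_top
      rw [this, Nat.cast_one]
    rw [h1, mul_one]
  · intro J _ hJ
    have h1 : fixedPointCharacter (Q J) x = 0 := by
      unfold fixedPointCharacter
      have h2 : MulAction.fixedBy (G ⧸ Q J) x = ∅ := by
        rw [Set.eq_empty_iff_forall_notMem]
        intro y hy
        induction y using QuotientGroup.induction_on with
        | _ g =>
        have h3 : x • (QuotientGroup.mk g : G ⧸ Q J) = QuotientGroup.mk g := hy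
        have h4 : g⁻¹ * x * g ∈ Q J := by
          have h5 : (QuotientGroup.mk (x * g) : G ⧸ Q J) = QuotientGroup.mk g := h3
          rw [eq_comm, QuotientGroup.eq, ← mul_assoc] at h5
          exact h5
        refine hP (Q J) (hne J hJ) (hidx J) ?_
        have h6 : orderOf (⟨g⁻¹ * x * g, h4⟩ : Q J) = orderOf x := by
          rw [← Subgroup.orderOf_coe]
          have h7 : g⁻¹ * x * g = MulAut.conj g⁻¹ x := by simp
          exact (congrArg orderOf h7).trans (MulEquiv.orderOf_eq (MulAut.conj g⁻¹) x)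
        exact (h6 ▸ hx).trans (orderOf_dvd_natCard _)
      rw [h2]
      simp
    rw [h1, mul_zero]
  · intro hcon
    exact absurd (Finset.mem_powerset_self _) hcon

end Cfsg.Agent.H732.PB
end

-- part: H841/PB/FiTwentyThree
section
prune_inst 0x4010000
set_option linter.all false
open scoped Cfsg.Agent.FastGrp

/-!
# S4826, the row of `Fi₂₃` (helper841)

* 2, 3, 11, 13: the rank 3 character of degree 30888 is in the principal 17-block;
* 17, 23: the rank 3 character of degree 782 has the value 1 on the elements of order divisible by 11;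
* 5: the centralizer `5 × S₇`;
* 7: the elements of order 17 are inverted by involutions commuting with no element of order 7.
-/

set_option autoImplicit false
set_option linter.constructorNameAsVariable false
set_option maxRecDepth 10000

open Cfsg

namespace Cfsg.Agent.H841.PB.FiTwentyThree

open Cfsg.Agent.Characters.Core Cfsg.Agent.Blocks.Basic Cfsg.Agent.H690.Spor.RankThree Cfsg.Agent.H133.PB
open Cfsg.Spor Cfsg.Agent.Fischer Cfsg.Agent.Fischer.Abstract Cfsg.Agent.R08.FiTwentyThree
open Cfsg.Agent.Fischer.Fi23Class (K)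
open Cfsg.Agent.Fischer.Fi23Z (z0)
open Cfsg.Agent.H163.PG.FiTT Subgroup

universe u

theorem arith {f g D : ℕ} (h1 : f + g = 3510 + 28160) (h2 : f * g * D = (1 + 3510 + 28160) * 3510 * 28160)
    (h3 : f ≠ g → ∃ c e : ℤ, (D : ℤ) = c ^ 2 ∧ ((f : ℤ) - g) * c = e * (((3510 : ℕ) : ℤ) + (28160 : ℕ)) + 2 * ((3510 : ℕ) : ℤ)) :
    (f = 782 ∧ g = 30888) ∨ (f = 30888 ∧ g = 782) := by
  have hne : f ≠ g := by
    rintro rfl
    have h4 : f = 15835 := by omega
    subst h4
    omega
  obtain ⟨c, e, hc, he⟩ := h3 hne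
  push_cast at he
  norm_num at h2 he
  have h2' : (f : ℤ) * g * c ^ 2 = 3130412313600 := by rw [← hc]; exact_mod_cast h2
  have h1' : (f : ℤ) + g = 31670 := by exact_mod_cast h1
  have hf0 : 0 < f := Nat.pos_of_ne_zero (by rintro rfl; omega)
  have hg0 : 0 < g := Nat.pos_of_ne_zero (by rintro rfl; omega)
  -- the quadratic relation
  have key : 3167 * c ^ 2 = 3167 * e ^ 2 + 1404 * (e + 28161) := by
    have h4 : 31670 * (31670 * c ^ 2) = 31670 * (31670 * e ^ 2 + 14040 * e + 14040 * 28161) := by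
      have h5 : (((f : ℤ) + g) * c) ^ 2 = (((f : ℤ) - g) * c) ^ 2 + 4 * ((f : ℤ) * g * c ^ 2) := by ring
      rw [h1', h2', he] at h5
      linear_combination h5
    have h5 := mul_left_cancel₀ (by norm_num : (31670 : ℤ) ≠ 0) h4
    linarith only [h4]
  obtain ⟨j, hj⟩ : ∃ j : ℤ, e = 342 + 3167 * j := by
    have h6 : (3167 : ℤ) ∣ 1404 * (e + 28161) := ⟨c ^ 2 - e ^ 2, by linarith only [key]⟩
    have h7 : IsCoprime (3167 : ℤ) 1404 := by
      rw [Int.isCoprime_iff_gcd_eq_one]; norm_num
    obtain ⟨m, hm⟩ := h7.dvd_of_dvd_mul_left h6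
    exact ⟨m - 9, by (clear * - hm; omega)⟩
  subst hj
  have key2 : c ^ 2 = (342 + 3167 * j) ^ 2 + 1404 * (j + 9) := by
    have : 3167 * c ^ 2 = 3167 * ((342 + 3167 * j) ^ 2 + 1404 * (j + 9)) := by rw [key]; ring
    exact mul_left_cancel₀ (by norm_num) this
  have hfg : (31669 : ℤ) ≤ (f : ℤ) * g := by
    have h8 : (1 : ℤ) ≤ f := by exact_mod_cast hf0
    have h9 : (1 : ℤ) ≤ g := by exact_mod_cast hg0
    nlinarith only [h1, hf0, hg0]
  have hcb : c ^ 2 ≤ 98847842 := by
    by_contra hcon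
    push Not at hcon
    nlinarith only [h2', hfg, hcon]
  have hj1 : j ≤ 3 := by
    by_contra hcon
    push Not at hcon
    nlinarith only [key, hcb, hcon]
  have hj2 : -3 ≤ j := by
    by_contra hcon
    push Not at hcon
    nlinarith only [key, hcb, hcon]
  generalize hm : (f : ℤ) * g = m at *
  rw [key2] at h2'
  have hj3 : j = -3 ∨ j = -2 ∨ j = -1 ∨ j = 0 ∨ j = 1 ∨ j = 2 ∨ j = 3 := by omega
  rcases hj3 with rfl | rfl | rfl | rfl | rfl | rfl | rfl
  · norm_num at h2'; omega
  · norm_num at h2'; omega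
  · norm_num at h2'; omega
  · norm_num at h2'
    have hm2 : m = 24154416 := by omega
    rw [hm2] at hm
    have hg : (g : ℤ) = 31670 - f := by linarith only [h1]
    rw [hg] at hm
    have h5 : ((f : ℤ) - 782) * ((f : ℤ) - 30888) = 0 := by linear_combination -hm
    rcases mul_eq_zero.1 h5 with h6 | h6
    · left; omega
    · right; omega
  · norm_num at h2'; omega
  · norm_num at h2'; omega
  · norm_num at h2'; omega

/-- the number of fixed points is the number of the transpositions commuting with `g` -/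
theorem card_fixed (g : Fi23) : Nat.card (MulAction.fixedBy (Fi23 ⧸ SporRec.Fi23Index.H) g) = (Fx g).ncard := by
  obtain ⟨Q, -, -, hQD, -⟩ := exists_data
  have h1 : Fx g = Q.t '' (MulAction.fixedBy (Fi23 ⧸ K) g) := by
    ext d
    constructor
    · rintro ⟨h1, h2⟩
      rw [← hQD] at h1
      obtain ⟨x, rfl⟩ := h1
      exact ⟨x, (Q.smul_eq_iff_comm _ _).2 h2, rfl⟩
    · rintro ⟨x, h1, rfl⟩
      refine ⟨by rw [← hQD]; exact ⟨x, rfl⟩, (Q.smul_eq_iff_comm _ _).1 h1⟩
  rw [h1, Set.ncard_image_of_injective _ Q.t_injective]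
  exact Nat.card_coe_set_eq _

/-- the irreducible character of degree divisible by 11 vanishes on the elements of order divisible by 11 -/
theorem vanish_eleven {χ : IrrCharacter Fi23} (h : 11 ∣ charDegree (χ : Fi23 → ℂ)) {g : Fi23} (hg : 11 ∣ orderOf g) :
    (χ : Fi23 → ℂ) g = 0 := by
  have hfin := finite_fi23
  refine H692.RealOver.defect_zero_vanish χ.2 11 (by norm_num) ?_ hg
  have h2 : (Nat.card Fi23).factorization 11 ≤ 1 := by
    by_contra h
    push Not at h
    exact not_sq (p := 11) (by norm_num) ((pow_dvd_pow 11 h).trans (Nat.ordProj_dvd _ _))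
  refine dvd_trans (pow_dvd_pow 11 h2) ?_
  rwa [pow_one]

theorem dzb_five : DZB 5 2 (Equiv.Perm (Fin 7)) := by
  have h := H621.AltChar.irr_b (G := Equiv.Perm (Fin 7)) (Ω := Fin 7) (by simp) (by
    exact Equiv.Perm.isMultiplyPretransitive (Fin 7) 4)
  obtain ⟨ψ, hψ⟩ : ∃ ψ : IrrCharacter (Equiv.Perm (Fin 7)), ∀ g, (ψ : Equiv.Perm (Fin 7) → ℂ) g =
      ((H621.AltChar.nf (Fin 7) g : ℂ) ^ 2 - 3 * H621.AltChar.nf (Fin 7) g + 2 - H621.AltChar.nu (Fin 7) g) / 2 :=
    ⟨⟨_, h⟩, fun g => rfl⟩
  have hone : charDegree (ψ : Equiv.Perm (Fin 7) → ℂ) = 15 := by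
    have h1 : H621.AltChar.nf (Fin 7) (1 : Equiv.Perm (Fin 7)) = 7 := by
      rw [H621.AltChar.nf_one]; simp
    have h2 : H621.AltChar.nu (Fin 7) (1 : Equiv.Perm (Fin 7)) = 0 := H621.AltChar.nu_one _ _
    have h3 := hψ 1
    rw [h1, h2, irr_one_eq_charDegree ψ.2] at h3
    have h4 : (charDegree (ψ : Equiv.Perm (Fin 7) → ℂ) : ℂ) = 15 := by rw [h3]; norm_num
    exact_mod_cast h4
  refine DZB.of_real ψ (fun g => ?_) (by rw [hone]; decide) ?_
  · rw [hψ g]
    have h1 : ((H621.AltChar.nf (Fin 7) g : ℂ) ^ 2 - 3 * H621.AltChar.nf (Fin 7) g + 2 - H621.AltChar.nu (Fin 7) g) / 2 =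
        ((((H621.AltChar.nf (Fin 7) g : ℝ) ^ 2 - 3 * H621.AltChar.nf (Fin 7) g + 2 - H621.AltChar.nu (Fin 7) g) / 2 : ℝ) : ℂ) := by
      push_cast
      ring
    rw [h1]
    exact Complex.ofReal_im _
  · rw [hone, H870.IMFi23.fac (N := Nat.card (Equiv.Perm (Fin 7))) (p := 5) (n := 1) (m := 1008) (by norm_num)
      (by rw [Nat.card_eq_fintype_card, Fintype.card_perm, Fintype.card_fin]; rfl) (by norm_num),
      H870.IMFi23.fac (N := 15) (p := 5) (n := 1) (m := 3) (by norm_num) (by norm_num) (by norm_num)]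

theorem bd_five : BD 5 2 Fi23 := by
  have f5 : Fact (Nat.Prime 5) := ⟨by norm_num⟩
  have hfin := finite_fi23
  obtain ⟨x, hx⟩ := exists_prime_orderOf_dvd_card' (G := Fi23) 5 (by rw [fi23_card]; norm_num)
  have hX : zpowers x ≤ centralizer ((zpowers x : Subgroup Fi23) : Set Fi23) := by
    rw [cent_zp, zpowers_le, mem_centralizer_singleton_iff]
  obtain ⟨f, hf, hk⟩ := H870.IMFi23.exists_surj hX (H838.Fi23.five_main (zpowers x) (by rw [Nat.card_zpowers, hx]))
  obtain ⟨f', hf', hk'⟩ : ∃ f' : centralizer ({x} : Set Fi23) →* Equiv.Perm (Fin 7), Function.Surjective f' ∧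
      f'.ker = (zpowers x).subgroupOf _ := by
    rw [← cent_zp]
    exact ⟨f, hf, hk⟩
  refine BD.of_elem' (by norm_num) hx (by rw [fi23_card]; norm_num) f' hf' ?_ ?_ dzb_five
  · rw [← MonoidHom.mem_ker, hk', mem_subgroupOf]
    exact mem_zpowers x
  · rw [card_cent_five hx, Nat.card_eq_fintype_card, Fintype.card_perm, Fintype.card_fin]
    rfl

theorem row_seven : Row 7 Fi23 := by
  have f7 : Fact (Nat.Prime 7) := ⟨by norm_num⟩
  have f17 : Fact (Nat.Prime 17) := ⟨by norm_num⟩
  have hfin := finite_fi23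
  have hs : IsSimpleGroup Fi23 := LThreeFi23.nsimple
  have hR : H722.RealP.HasReal 17 Fi23 := H661.Spor.hasReal_fermat (k := 4) (by norm_num) (by norm_num)
    (by rw [fi23_card]; norm_num) (not_sq (by norm_num)) (by rw [fi23_card]; norm_num)
  obtain ⟨g, hg, hr⟩ := hR.isConj
  refine Row.of_inverted (q := 17) (by norm_num) (by norm_num) (not_sq (by norm_num)) hg hr (card_cent_17 hg) ?_
  intro t ht htg
  refine ⟨1, by rw [pow_one, fi23_card]; norm_num, ?_⟩
  rw [pow_one]
  intro h
  exact not_dvd_seven hg ht htg (f7.out.dvd_of_dvd_pow h)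

theorem prime_cases {p : ℕ} (hp : p.Prime) (h : p ∣ 4089470473293004800) :
    p = 2 ∨ p = 3 ∨ p = 5 ∨ p = 7 ∨ p = 11 ∨ p = 13 ∨ p = 17 ∨ p = 23 := by
  rcases Nat.lt_or_ge p 5 with h5 | h5
  · have := hp.two_le
    have h4 : p ≠ 4 := by rintro rfl; norm_num at hp
    omega
  · have := LThreeFi23.prime_cases hp h5 h
    omega

theorem row_model {p : ℕ} (hp : p.Prime) (hd : p ∣ Nat.card Fi23) : Row p Fi23 := by
  have hfin := finite_fi23
  have f11 : Fact (Nat.Prime 11) := ⟨by norm_num⟩
  have f17 : Fact (Nat.Prime 17) := ⟨by norm_num⟩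
  obtain ⟨R, hR⟩ := H870.IMFi23.exists_r3
  obtain ⟨χ₁, χ₂, h1, h2, -, -, h3⟩ := rank3_of hR (a := 782) (b := 30888) (by norm_num)
    (fun f g D h1 h2 h3 => arith h1 h2 h3)
  have cq : p ∣ 30888 → p ≠ 17 → Row p Fi23 := by
    intro hdv hne
    obtain ⟨y, hy⟩ := exists_prime_orderOf_dvd_card' (G := Fi23) 17 (by rw [fi23_card]; norm_num)
    have hC : IsPGroup 17 (centralizer ({y} : Set Fi23)) := IsPGroup.of_card (n := 1) (by rw [card_cent_17 hy, pow_one])
    obtain ⟨Q, hQ⟩ := isPGroup_centralizer_sylow hC ⟨1, by rw [hy, pow_one]⟩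
    exact Row.intro (by norm_num) hne.symm (by rw [fi23_card]; norm_num)
      (BD.of_sylow Q hQ χ₂ (by rw [h2]; norm_num) (by rwa [h2]))
  have ct : p ∣ 782 → p ≠ 11 → Row p Fi23 := by
    intro hdv hne
    have h11 : 11 ∣ Nat.card Fi23 := by rw [fi23_card]; norm_num
    refine Row.intro (by norm_num) hne.symm h11
      (H732.PB.BD.of_const χ₁ (c := 1) one_ne_zero (fun g hg => ?_) h11 (by rwa [h1]))
    have h4 := h3 g
    rw [card_fixed, ncard_of_eleven hg, vanish_eleven (χ := χ₂) (by rw [h2]; norm_num) hg] at h4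
    push_cast at h4
    linear_combination -h4
  rw [fi23_card] at hd
  rcases prime_cases hp hd with rfl | rfl | rfl | rfl | rfl | rfl | rfl | rfl
  · exact cq (by norm_num) (by norm_num)
  · exact cq (by norm_num) (by norm_num)
  · exact Row.intro Nat.prime_two (by norm_num) (by rw [fi23_card]; norm_num) bd_five
  · exact row_seven
  · exact cq (by norm_num) (by norm_num)
  · exact cq (by norm_num) (by norm_num)
  · exact ct (by norm_num) (by norm_num)
  · exact ct (by norm_num) (by norm_num)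

end Cfsg.Agent.H841.PB.FiTwentyThree

namespace Cfsg.Agent.H841.PB

open Cfsg.Agent.H133.PB

universe u

/-- **The row of `Fi₂₃`.** -/
theorem row_fi23 {S : Type u} [Group S] (h : Cfsg.Spor.IsoFi23 S) {p : ℕ} (hp : p.Prime) (hd : p ∣ Nat.card S) :
    Row p S := by
  obtain ⟨e⟩ := h
  rw [Nat.card_congr e.toEquiv] at hd
  exact Row.of_equiv e (FiTwentyThree.row_model hp hd)

end Cfsg.Agent.H841.PB
end
end
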